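-- Team project OPARM (S5991): the MINUS twin of helper70's OPAR (S5989).  Interface file
-- (helper64): the minus-specific package statements.  The generic level-1 packages
-- `PkgTwo`, `PkgPos`, `PkgNeg` of `Cfsg.Agent.Lib.Helper70.OPar.Defs` are reused verbatim.
-- Everything is stated for `Cfsg.quadFormMinus k F a b` on `(Fin k ⊕ Fin k) ⊕ Fin 2 → F`
-- (dimension `2 k + 2`; in S5991 `k = d - 1`).
import Mathlib
import Cfsg.Prelude.Def_GeometricClasses
import Cfsg.Prelude.Def_Classical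
import Cfsg.Agent.Lib.Helper23.OHyp.Defs
import Cfsg.Agent.Lib.Helper70.OPar.Defs

set_option autoImplicit false
open scoped MatrixGroups
open Matrix

namespace Cfsg.Agent.Lib.Helper64.OParM

open Cfsg.Agent.Lib.Helper23.OHyp Cfsg.Agent.Lib.Helper70.OPar

universe u

/-- The index type of the minus form in dimension `2 k + 2`. -/
abbrev MI (k : ℕ) : Type := (Fin k ⊕ Fin k) ⊕ Fin 2

/-- The binary form `z₁² + a z₁ z₂ + b z₂²` is anisotropic. -/
def Aniso {F : Type u} [Field F] (a b : F) : Prop :=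
  ∀ x y : F, x ^ 2 + a * x * y + b * y ^ 2 = 0 → x = 0 ∧ y = 0

/-- [MINUSQ] the minus form is nondegenerate and not of plus type (no totally singular subspace
of dimension `k + 1`). -/
def PkgMinusQ : Prop :=
  ∀ (F : Type u) [Field F], (2 : F) ≠ 0 → ∀ (k : ℕ) (a b : F), Aniso a b →
    Cfsg.Geo.IsNondegenerateQuadraticForm (Cfsg.quadFormMinus k F a b) ∧
    ¬ Plus (Cfsg.quadFormMinus k F a b) ⊤

/-- [OM1M] an element of `Ω⁻` with square `-1` when `k` is even (`d = k + 1` odd) and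
`q ≡ 7 (mod 8)`. -/
def PkgOm1M : Prop :=
  ∀ (F : Type u) [Field F] [Fintype F], Fintype.card F % 8 = 7 → ∀ (k : ℕ), Even k →
    ∀ (a b : F), Aniso a b →
    ∃ x : GL (MI k) F, x ∈ Cfsg.Geo.omegaGL (Cfsg.quadFormMinus k F a b) ∧
      (x : Matrix (MI k) (MI k) F) * (x : Matrix (MI k) (MI k) F) = -1

/-- [OM2MA] an element of `Ω⁻` with square `-1` forces `k` even and `q ≡ 3 (mod 4)`. -/
def PkgOm2MA : Prop :=
  ∀ (F : Type u) [Field F] [Fintype F], Odd (Fintype.card F) → ∀ (k : ℕ) (a b : F), Aniso a b →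
    ∀ x : GL (MI k) F, x ∈ Cfsg.Geo.omegaGL (Cfsg.quadFormMinus k F a b) →
      (x : Matrix (MI k) (MI k) F) * (x : Matrix (MI k) (MI k) F) = -1 →
      Even k ∧ Fintype.card F % 4 = 3

/-- [OM2MB] no element of `Ω⁻` with square `-1` when `q ≡ 3 (mod 8)` and `k` is even. -/
def PkgOm2MB : Prop :=
  ∀ (F : Type u) [Field F] [Fintype F], Fintype.card F % 8 = 3 → ∀ (k : ℕ), Even k →
    ∀ (a b : F), Aniso a b →
    ∀ x : GL (MI k) F, x ∈ Cfsg.Geo.omegaGL (Cfsg.quadFormMinus k F a b) →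
      (x : Matrix (MI k) (MI k) F) * (x : Matrix (MI k) (MI k) F) ≠ -1

/-- [EXE0M] minus type, `c ∣ 2 k + 2`, `i` even and `(2 k + 2) / i` odd: a fixed-point-free
isometry of order `r`. -/
def PkgExe0M : Prop :=
  ∀ (F : Type u) [Field F] [Fintype F], (2 : F) ≠ 0 →
    ∀ (k r : ℕ) (a b : F), Aniso a b → r.Prime → r ≠ 2 → ¬ r ∣ Fintype.card F →
    (2 * k + 2) % cc (Fintype.card F) r = 0 →
    Even (ordI (Fintype.card F) r) → Odd ((2 * k + 2) / ordI (Fintype.card F) r) →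
    ∃ x : GL (MI k) F, x ∈ Cfsg.isometryGroup F (Cfsg.quadFormMinus k F a b) ∧
      orderOf x = r ∧
      Module.finrank F (fixSp (x : Matrix (MI k) (MI k) F)) = 0

/-- The unipotent derangement for the minus form: an element of `Ω⁻` of order `p` with no
invariant member of the family of `W₀`. -/
def UniConclM (F : Type u) [Field F] [Fintype F] (p k m : ℕ) (a b : F)
    (W₀ : Submodule F (MI k → F)) : Prop :=
  ∃ x : GL (MI k) F, x ∈ Cfsg.Geo.omegaGL (Cfsg.quadFormMinus k F a b) ∧ x ^ p = 1 ∧ x ≠ 1 ∧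
    ∀ W : Submodule F (MI k → F), Mem (Cfsg.quadFormMinus k F a b) W₀ m W →
      ¬ Inv (x : Matrix (MI k) (MI k) F) W

/-- [UNIM3] `k` even (`d` odd), `m ≡ 3 (mod 4)`. -/
def PkgUniM3 : Prop :=
  ∀ (F : Type u) [Field F] [Fintype F] (p : ℕ) [Fact p.Prime] [CharP F p], p ≠ 2 →
    ∀ (k m : ℕ) (a b : F), Aniso a b → 3 ≤ k → Odd m → m ≤ k → Even k → m % 4 = 3 →
    ∀ W₀ : Submodule F (MI k → F), Module.finrank F W₀ = m →
      Nd (Cfsg.quadFormMinus k F a b) W₀ → UniConclM F p k m a b W₀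

/-- [UNIM1] `k` even (`d` odd), `m ≡ 1 (mod 4)`. -/
def PkgUniM1 : Prop :=
  ∀ (F : Type u) [Field F] [Fintype F] (p : ℕ) [Fact p.Prime] [CharP F p], p ≠ 2 →
    ∀ (k m : ℕ) (a b : F), Aniso a b → 3 ≤ k → Odd m → m ≤ k → Even k → m % 4 = 1 →
    ∀ W₀ : Submodule F (MI k → F), Module.finrank F W₀ = m →
      Nd (Cfsg.quadFormMinus k F a b) W₀ → UniConclM F p k m a b W₀

/-- [UNIME] `k` odd (`d` even): the isometry class of the invariant members is forced and is
chosen different from that of `W₀`. -/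
def PkgUniME : Prop :=
  ∀ (F : Type u) [Field F] [Fintype F] (p : ℕ) [Fact p.Prime] [CharP F p], p ≠ 2 →
    ∀ (k m : ℕ) (a b : F), Aniso a b → 3 ≤ k → Odd m → m ≤ k → Odd k →
    ∀ W₀ : Submodule F (MI k → F), Module.finrank F W₀ = m →
      Nd (Cfsg.quadFormMinus k F a b) W₀ → UniConclM F p k m a b W₀

end Cfsg.Agent.Lib.Helper64.OParM
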